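import Groth.Agent.RootBase.Pinned
import Groth.Agent.Corad.Lattice
import Groth.Agent.RootSys.Rank
import Mathlib.LinearAlgebra.RootSystem.Base
import Mathlib.GroupTheory.OrderOfElement

/-!
# Coxeter elements have no fixed vectors
-/

set_option autoImplicit false
set_option linter.style.haveILetI false
set_option linter.unusedSectionVars false

universe u

open CategoryTheory AlgebraicGeometry

noncomputable section

namespace Groth.Agent.AlmostSimple

variable {idx M : Type} [AddCommGroup M] (P : RootPairing idx ℤ M (Module.Dual ℤ M))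

/-- The reflection of a root, on the lattice. -/
def rMap (j : idx) : M →+ M := AddMonoidHom.id M - (zmultiplesHom M (P.root j)).comp (P.coroot j).toAddMonoidHom

theorem rMap_apply (j : idx) (m : M) : rMap P j m = m - P.coroot j m • P.root j := by
  simp [rMap, zmultiplesHom_apply]

/-- The product of the reflections of a list of roots. -/
def wMap : List idx → (M →+ M)
  | [] => AddMonoidHom.id M
  | j :: l => (wMap l).comp (rMap P j)

theorem wMap_sub_mem : ∀ (l : List idx) (m : M), wMap P l m - m ∈ Submodule.span ℤ (P.root '' {j | j ∈ l})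
  | [], m => by simp [wMap]
  | j :: l, m => by
    have h := wMap_sub_mem l (rMap P j m)
    have e : wMap P (j :: l) m - m = (wMap P l (rMap P j m) - rMap P j m) + (-(P.coroot j m)) • P.root j := by
      rw [show wMap P (j :: l) m = wMap P l (rMap P j m) from rfl, rMap_apply, neg_smul]
      abel
    rw [e]
    refine Submodule.add_mem _ (Submodule.span_mono (Set.image_mono fun x hx => List.mem_cons_of_mem j hx) h)
      (Submodule.smul_mem _ _ (Submodule.subset_span ⟨j, List.mem_cons_self, rfl⟩))

/-- A vector fixed by a Coxeter product is killed by its simple coroots. -/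
theorem coroot_eq_zero_of_fixed (B : P.Base) : ∀ (l : List idx), l.Nodup → (∀ j ∈ l, j ∈ B.support) → ∀ m : M,
    wMap P l m = m → ∀ j ∈ l, P.coroot j m = 0
  | [], _, _, _, _, j, hj => absurd hj List.not_mem_nil
  | j :: l, hnd, hl, m, hm, i, hi => by
    rw [List.nodup_cons] at hnd
    have h := wMap_sub_mem P l (rMap P j m)
    have e : wMap P l (rMap P j m) - rMap P j m = P.coroot j m • P.root j := by
      rw [show wMap P l (rMap P j m) = m from hm, rMap_apply, sub_sub_cancel]
    rw [e] at h
    have h0 : P.coroot j m = 0 := by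
      refine linearIndependent_iff_eq_zero_of_smul_mem_span.1 B.linearIndepOn_root ⟨j, hl j List.mem_cons_self⟩ _ ?_
      refine Submodule.span_mono ?_ h
      rintro _ ⟨x, hx, rfl⟩
      refine ⟨⟨x, hl x (List.mem_cons_of_mem j hx)⟩, ⟨trivial, fun e => hnd.1 ?_⟩, rfl⟩
      have hxj : x = j := congrArg Subtype.val (Set.mem_singleton_iff.1 e)
      exact hxj ▸ hx
    rcases List.mem_cons.1 hi with rfl | hi'
    · exact h0
    · have hr : rMap P j m = m := by rw [rMap_apply, h0, zero_smul, sub_zero]
      refine coroot_eq_zero_of_fixed B l hnd.2 (fun x hx => hl x (List.mem_cons_of_mem j hx)) m ?_ i hi'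
      rw [show wMap P (j :: l) m = wMap P l (rMap P j m) from rfl, hr] at hm
      exact hm

/-- The Coxeter product moves roots to roots. -/
theorem exists_perm (hP : P.toLinearMap = Module.Dual.eval ℤ M) :
    ∀ l : List idx, ∃ σ : Equiv.Perm idx, ∀ i, wMap P l (P.root i) = P.root (σ i)
  | [] => ⟨1, fun i => rfl⟩
  | j :: l => by
    obtain ⟨σ, hσ⟩ := exists_perm hP l
    refine ⟨σ * P.reflectionPerm j, fun i => ?_⟩
    rw [show wMap P (j :: l) (P.root i) = wMap P l (rMap P j (P.root i)) from rfl, Equiv.Perm.mul_apply, ← hσ]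
    congr 1
    have h := P.reflectionPerm_root j i
    rw [hP] at h
    rw [rMap_apply]
    exact h

/-- An injective endomorphism of a lattice has an image of finite index. -/
theorem exists_smul_mem_range [Module.Free ℤ M] [Module.Finite ℤ M] (ψ : M →+ M) (hψ : Function.Injective ψ) :
    ∃ d : ℕ, 0 < d ∧ ∀ m : M, d • m ∈ ψ.range := by
  let L := LinearMap.range ψ.toIntLinearMap
  have hr : Module.finrank ℤ L = Module.finrank ℤ M :=
    (LinearEquiv.ofInjective ψ.toIntLinearMap hψ).finrank_eq.symm
  have h0 : Module.finrank ℤ (M ⧸ L) = 0 := by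
    have := Submodule.finrank_quotient_add_finrank L
    omega
  haveI := Module.finite_of_fg_torsion (M ⧸ L) (Module.finrank_eq_zero_iff_isTorsion.1 h0)
  refine ⟨Nat.card (M ⧸ L), Nat.card_pos, fun m => ?_⟩
  have h1 : Nat.card (M ⧸ L) • (Submodule.Quotient.mk m : M ⧸ L) = 0 := card_nsmul_eq_zero'
  rw [← Submodule.Quotient.mk_smul, Submodule.Quotient.mk_eq_zero] at h1
  obtain ⟨x, hx⟩ := h1
  exact ⟨x, hx⟩

variable {P}

/-- In a lattice where the coroots separate, the roots have finite index. -/
theorem exists_smul_mem_roots [Finite idx] [Module.Finite ℤ M]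
    (h0 : ∀ m, (∀ a, P.coroot' a m = 0) → m = 0) :
    ∃ d : ℕ, 0 < d ∧ ∀ m : M, d • m ∈ AddSubgroup.closure (Set.range fun a => P.root a) := by
  haveI := Corad.finite_quot_lattSup (P := P)
  refine ⟨Nat.card (M ⧸ Corad.lattSup P), Nat.card_pos, fun m => ?_⟩
  have h1 : Nat.card (M ⧸ Corad.lattSup P) • (QuotientAddGroup.mk m : M ⧸ Corad.lattSup P) = 0 := card_nsmul_eq_zero'
  rw [← QuotientAddGroup.mk_nsmul, QuotientAddGroup.eq_zero_iff] at h1
  have e : Corad.latt P = ⊥ := (AddSubgroup.eq_bot_iff_forall _).2 fun x hx => h0 x (Corad.mem_latt.1 hx)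
  have e' : Corad.lattSup P = AddSubgroup.closure (Set.range fun a => P.root a) := by
    rw [Corad.lattSup, e, bot_sup_eq]
  exact e'.le h1

/-- A power of the Coxeter product is trivial. -/
theorem exists_wMap_pow [Finite idx] [Module.Free ℤ M] [Module.Finite ℤ M]
    (hP : P.toLinearMap = Module.Dual.eval ℤ M) (h0 : ∀ m, (∀ a, P.coroot' a m = 0) → m = 0) (l : List idx) :
    ∃ h : ℕ, 0 < h ∧ ∀ m, (wMap P l)^[h] m = m := by
  classical
  obtain ⟨σ, hσ⟩ := exists_perm P hP l
  obtain ⟨d, hd, hdm⟩ := exists_smul_mem_roots h0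
  refine ⟨orderOf σ, orderOf_pos σ, fun m => ?_⟩
  have hpow : ∀ (n : ℕ) i, (wMap P l)^[n] (P.root i) = P.root ((σ ^ n) i) := fun n => by
    induction n with
    | zero => intro i; rfl
    | succ n ih =>
      intro i
      rw [Function.iterate_succ_apply', ih, hσ, pow_succ', Equiv.Perm.mul_apply]
  let f : M →+ M := (show AddMonoid.End M from wMap P l) ^ orderOf σ
  have hf : ∀ x, f x = (wMap P l)^[orderOf σ] x := fun x => congrFun (AddMonoid.End.coe_pow M (show AddMonoid.End M from wMap P l) _) x
  have hR : AddSubgroup.closure (Set.range fun a => P.root a) ≤ (f - AddMonoidHom.id M).ker := by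
    rw [AddSubgroup.closure_le]
    rintro _ ⟨i, rfl⟩
    show f (P.root i) - P.root i = 0
    rw [hf, hpow, pow_orderOf_eq_one, Equiv.Perm.one_apply, sub_self]
  have h1 : (f - AddMonoidHom.id M) (d • m) = 0 := hR (hdm m)
  rw [map_nsmul] at h1
  haveI : Module.IsTorsionFree ℤ M := inferInstance
  have h2 : f m - m = 0 := by
    have h3 : (d : ℤ) • ((f - AddMonoidHom.id M) m) = 0 := by rw [natCast_zsmul]; exact h1
    exact (smul_eq_zero.1 h3).resolve_left (by omega)
  rw [← hf]
  exact sub_eq_zero.1 h2

end Groth.Agent.AlmostSimple
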