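import Groth.Agent.AlmostSimple.RootsGen
import Groth.Agent.AlmostSimple.Coxeter
import Groth.Agent.RootBase.Adjoint
import Groth.Agent.SubGen.AlgClosed
import Groth.Agent.RedOpen.Semisimple

/-!
# Central elements are commutators of elements of finite order
-/

set_option autoImplicit false
set_option backward.isDefEq.respectTransparency false
set_option linter.style.haveILetI false
set_option linter.unusedSectionVars false
set_option maxHeartbeats 2000000
set_option synthInstance.maxHeartbeats 400000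

universe u

open CategoryTheory Limits MonoidalCategory CartesianMonoidalCategory MonObj GrpObj AlgebraicGeometry
open scoped CategoryTheory.Obj

noncomputable section

namespace Groth.Agent.AlmostSimple

open Groth.Agent.HomDiag Groth.Agent.MTBridge Groth.Agent.RootBase Groth.Agent.DynPar

/-- the group structure of a diagonalisable group over the integers -/
local instance (priority := high) diagGrpASM (M : Type) [AddCommGroup M] :
    GrpObj (Red.diag (ULift.{u} ℤ) M) :=
  (Groth.Agent.MTBridge.specGrp (ULift.{u} ℤ) (Groth.Agent.HomDiag.ZA.{u} M)).grp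

theorem ch_pow {S : Scheme.{u}} {M : Type} [AddCommGroup M] {X : Over S} (t : X ⟶ Red.DS S M) (n : ℕ)
    (m : Multiplicative M) : ch (t ^ n) m = ch t m ^ n := by
  induction n with
  | zero => rw [pow_zero, pow_zero, ch_one]
  | succ n ih => rw [pow_succ, ch_mul, ih, pow_succ]

variable {K : Type u} [Field K] [IsAlgClosed K] {G : Over (Spec (CommRingCat.of K))} [GrpObj G]

/-- A semisimple group over an algebraically closed field is semisimple. -/
theorem isSemisimple_of_over (hG : Red.IsSemisimpleOver K G) : Red.IsSemisimple G := by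
  obtain ⟨hGa, hGs, hGc, hrad⟩ := id hG.1
  haveI := hGa; haveI := hGs; haveI := hGc
  haveI : IsAffineHom G.hom := isAffineHom_of_isAffine G.hom
  haveI : Subsingleton ↥(Spec (CommRingCat.of K)) := inferInstanceAs (Subsingleton (PrimeSpectrum K))
  have hconn : ∀ s : Spec (CommRingCat.of K), _root_.IsConnected (G.hom.base ⁻¹' {s}) := fun s => by
    rw [show G.hom.base ⁻¹' {s} = Set.univ from Set.eq_univ_of_forall fun x => Subsingleton.elim _ _]
    exact isConnected_univ
  have hR : Red.IsReductive G := by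
    refine ⟨inferInstance, inferInstance, fun s => ?_⟩
    haveI : IsAffineHom (Red.geomFibre s G).hom := inferInstanceAs (IsAffineHom (pullback.snd G.hom _))
    refine ⟨isAffine_of_isAffineHom (Red.geomFibre s G).hom, inferInstanceAs (Smooth (pullback.snd G.hom _)),
      TorusLift.connectedSpace_bc_geom hconn _, ?_⟩
    exact (RedOpen.noUni_bc_iff G (𝟙 (Spec (CommRingCat.of K))) (Red.geomPt s) (Subsingleton.elim _ _)).1
      (RedOpen.noUni_of_iso (Chev.bcIdIso G).symm hrad)
  obtain ⟨Z, _, z, hz, hzc, -⟩ := RedCartan.exists_centre_of_isReductive hR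
  haveI := hz.1; haveI := hz.2.1; haveI := hzc
  refine ⟨inferInstance, inferInstance, fun s => ?_⟩
  let y := Red.geomPt s
  haveI := Chev.Borel.isIso_geomPt K s
  haveI : IsClosedImmersion ((Over.pullback y).map z).left :=
    MorphismProperty.of_isPullback (MTImage.isPullback_map z y) hzc
  have hzb : Red.IsCentre ((Over.pullback y).map z) := by
    have h := Chev.CentBC.isCentralizerOf_bc y (𝟙 G) z hz
    rwa [CategoryTheory.Functor.map_id] at h
  refine (RedOpen.isSemisimpleOver_iff_centre (hR.2.2 s) _ hzb).2 ?_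
  rw [← RootIntrinsic.dim_bc_iso Z y _ rfl]
  exact (RedOpen.isSemisimpleOver_iff_centre hG.1 z hz).1 hG

/-- Points lift along surjective morphisms. -/
theorem exists_rp_lift_of_surjective {X Y : Over (Spec (CommRingCat.of K))} [LocallyOfFiniteType X.hom]
    [LocallyOfFiniteType Y.hom] (q : X ⟶ Y) [Surjective q.left] (y : 𝟙_ (Over (Spec (CommRingCat.of K))) ⟶ Y) :
    ∃ x : 𝟙_ (Over (Spec (CommRingCat.of K))) ⟶ X, x ≫ q = y := by
  haveI : JacobsonSpace X.left := LocallyOfFiniteType.jacobsonSpace X.hom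
  have hcl : IsClosed (q.left ⁻¹' {SubGen.rpt y}) :=
    (mem_closedPoints_iff.1 (SubGen.rpt_mem_closedPoints y)).preimage q.left.continuous
  obtain ⟨w, hw, hwc⟩ := nonempty_inter_closedPoints (Z := q.left ⁻¹' {SubGen.rpt y})
    (q.left.surjective (SubGen.rpt y)) hcl.isLocallyClosed
  obtain ⟨x, rfl⟩ := SubGen.exists_rpt hwc
  exact ⟨x, SubGen.rpt_injective (by rw [← SubGen.map_rpt]; exact hw)⟩

/-- **Every central element is a commutator of elements of finite order.** -/
theorem exists_commutator (hss : Red.IsSemisimple G) (D : Red.SplitRed G)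
    (z : 𝟙_ (Over (Spec (CommRingCat.of K))) ⟶ G)
    (hz : z ∈ Subgroup.center (𝟙_ (Over (Spec (CommRingCat.of K))) ⟶ G)) :
    ∃ a b : 𝟙_ (Over (Spec (CommRingCat.of K))) ⟶ G, IsOfFinOrder a ∧ IsOfFinOrder b ∧ z = a * b * a⁻¹ * b⁻¹ := by
  classical
  letI := D.grpT
  letI := D.acgM
  letI := D.fintypeIdx
  letI := D.finiteM
  letI := D.freeM
  haveI := D.maximalTorus.1
  haveI := RootBase.isReduced_of_splitRed D
  let U := 𝟙_ (Over (Spec (CommRingCat.of K)))
  let c := D.split.inv.hom.hom ≫ D.i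
  have F : RootBase.Frame c (fun a => D.P.root a) D.u := RootBase.frame_of_splitRed D
  haveI := F.hc.1
  haveI : Mono c := F.hc.2.1
  haveI := F.hG.1
  haveI := F.hG.2.1
  haveI : IsReduced G.left := SmoothRed.isReduced_of_smooth_scheme G.hom
  have hP := D.pairing_eq
  have hcor := RootBase.coroot_apply_root hP
  obtain ⟨B⟩ := RootBase.nonempty_base_split D
  obtain ⟨u₁, w, W, -, hp⟩ := RootBase.exists_dualised hcor F (RootBase.hasRefl_of_splitRed D) B
  have hcor' : ∀ a m, D.P.coroot' a m = D.P.coroot a m := fun a m => by simp [RootPairing.coroot', hP]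
  have h0 : ∀ m, (∀ a, D.P.coroot' a m = 0) → m = 0 := fun m hm =>
    eq_zero_of_coroots hP hss W hp fun a => by rw [← hcor']; exact hm a
  -- the Coxeter element
  choose N hN using RootBase.hasRefl_of_splitRed D
  let l := B.support.toList
  have hconj : ∀ (l : List D.idx), ∃ n : U ⟶ G, ∀ (X : Over (Spec (CommRingCat.of K))) (t : X ⟶ Red.DS _ D.M),
      ∃ t' : X ⟶ Red.DS _ D.M, cj n (t ≫ c) = t' ≫ c ∧
        ∀ m, ch t' (Multiplicative.ofAdd m) = ch t (Multiplicative.ofAdd (wMap D.P l m)) := by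
    intro l
    induction l with
    | nil => exact ⟨1, fun X t => ⟨t, by simp [cj, MonObj.comp_one], fun m => rfl⟩⟩
    | cons j l ih =>
      obtain ⟨n, hn⟩ := ih
      refine ⟨N j * n, fun X t => ?_⟩
      obtain ⟨t', h1, h2⟩ := hn X t
      refine ⟨RootBase.refl (D.P.root j) (D.P.coroot j).toAddMonoidHom t', ?_, fun m => ?_⟩
      · rw [← cj_cj, h1]
        exact hN j X t'
      · rw [ch_refl, h2]
        rfl
  obtain ⟨n, hn⟩ := hconj l
  let ψ : D.M →+ D.M := wMap D.P l - AddMonoidHom.id D.M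
  have hψ : Function.Injective ψ := by
    rw [injective_iff_map_eq_zero]
    intro m hm
    have hfix : wMap D.P l m = m := sub_eq_zero.1 hm
    have hsupp := coroot_eq_zero_of_fixed D.P B l B.support.nodup_toList (fun j hj => Finset.mem_toList.1 hj) m hfix
    refine h0 m fun a => ?_
    rw [hcor']
    have h' : D.P.coroot a ∈ LinearMap.ker (LinearMap.applyₗ (R := ℤ) (M₂ := ℤ) m) := by
      refine Submodule.span_le.2 ?_ (B.coroot_mem_span_int a)
      rintro _ ⟨b, hb, rfl⟩
      exact hsupp b (Finset.mem_toList.2 hb)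
    exact h'
  obtain ⟨d, hd, hdm⟩ := exists_smul_mem_range ψ hψ
  obtain ⟨e, he, hem⟩ := exists_smul_mem_roots h0
  -- the central element is in the torus
  let f : G ⟶ G := (toUnit G ≫ z) * 𝟙 G * (toUnit G ≫ z)⁻¹
  have hf : f = 𝟙 G := Chev.BorelFixed.hom_ext_rp fun x => by
    simp only [f, MonObj.comp_mul, GrpObj.comp_inv, Category.comp_id, ← Category.assoc,
      toUnit_unique (x ≫ toUnit G) (𝟙 _), Category.id_comp]
    rw [(Subgroup.mem_center_iff.1 hz x).symm, mul_inv_cancel_right]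
  obtain ⟨z₀, hz₀, hz₀'⟩ := F.exists_torus_of_central z fun X' x g => by
    have h := congrArg (g ≫ ·) hf
    simp only [f, MonObj.comp_mul, GrpObj.comp_inv, Category.comp_id, ← Category.assoc,
      toUnit_unique (g ≫ toUnit G) x] at h
    exact mul_inv_eq_iff_eq_mul.1 h
  have hroots : ∀ m ∈ AddSubgroup.closure (Set.range fun a => D.P.root a), ch z₀ (Multiplicative.ofAdd m) = 1 := by
    intro m hm
    induction hm using AddSubgroup.closure_induction with
    | mem x hx => obtain ⟨a, rfl⟩ := hx; exact hz₀' a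
    | zero => rw [ofAdd_zero, map_one]
    | add x y _ _ hx hy => rw [ofAdd_add, map_mul, hx, hy, _root_.one_mul]
    | neg x _ hx =>
      have := map_mul (ch z₀) (Multiplicative.ofAdd x) (Multiplicative.ofAdd x)⁻¹
      rw [mul_inv_cancel, map_one, hx, _root_.one_mul] at this
      exact this.symm
  -- solve in the torus
  haveI : AddGroup.FG D.M := Module.Finite.iff_addGroup_fg.1 inferInstance
  haveI : Surjective (Red.DSmap (Spec (CommRingCat.of K)) ψ).left := by
    obtain ⟨Z', q, r, hq, hr⟩ := MTQuot.covers_DSmap (S := Spec (CommRingCat.of K)) ψ hψ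
    rw [← PreZeroHypercover.presieve₀_singleton.{_, _, u}] at hq
    obtain ⟨-, hs, -⟩ := (HTopV.mem_fpqc_iff _).1 hq
    haveI : Surjective q := ⟨fun y => by obtain ⟨_, z, hz⟩ := hs y; exact ⟨z, hz⟩⟩
    haveI : Surjective (r ≫ (Red.DSmap (Spec (CommRingCat.of K)) ψ).left) := hr.symm ▸ inferInstance
    exact Surjective.of_comp r _
  haveI : Smooth (Red.DS (Spec (CommRingCat.of K)) D.M).hom := Chev.smooth_of_isTorus F.hc.2.2.1
  obtain ⟨t, ht⟩ := exists_rp_lift_of_surjective (Red.DSmap _ ψ) z₀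
  have htz : ∀ m, ch t (Multiplicative.ofAdd (ψ m)) = ch z₀ (Multiplicative.ofAdd m) := fun m => by
    rw [← ht, ch_DSmap, toAdd_ofAdd]
  -- finiteness
  have htord : t ^ (d * e) = 1 := ch_ext fun m => by
    obtain ⟨m, rfl⟩ : ∃ k : D.M, Multiplicative.ofAdd k = m := ⟨m.toAdd, rfl⟩
    obtain ⟨x, hx⟩ := hdm m
    rw [ch_pow, ch_one, pow_mul, ← map_pow, ← ofAdd_nsmul, ← hx, htz, ← map_pow, ← ofAdd_nsmul]
    exact hroots _ (hem x)
  obtain ⟨h, hh, hwh⟩ := exists_wMap_pow hP h0 l
  have hnpow : ∀ (p : ℕ) (X : Over (Spec (CommRingCat.of K))) (s : X ⟶ Red.DS _ D.M),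
      ∃ s' : X ⟶ Red.DS _ D.M, cj (n ^ p) (s ≫ c) = s' ≫ c ∧
        ∀ m, ch s' (Multiplicative.ofAdd m) = ch s (Multiplicative.ofAdd ((wMap D.P l)^[p] m)) := by
    intro p
    induction p with
    | zero => exact fun X s => ⟨s, by simp [cj, MonObj.comp_one], fun m => rfl⟩
    | succ p ih =>
      intro X s
      obtain ⟨s', h1, h2⟩ := ih X s
      obtain ⟨s'', h3, h4⟩ := hn X s'
      refine ⟨s'', by rw [pow_succ', ← cj_cj, h1, h3], fun m => ?_⟩
      rw [h4, h2, Function.iterate_succ_apply]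
  obtain ⟨z₁, hz₁⟩ := ((RedCartan.centralizer_self_of_isReductive F.hG c F.hc).2.2 U (n ^ h)).2 fun X' x s => by
    obtain ⟨s', h1, h2⟩ := hnpow h X' s
    have hs : s' = s := ch_ext fun m => by
      obtain ⟨m, rfl⟩ : ∃ k : D.M, Multiplicative.ofAdd k = m := ⟨m.toAdd, rfl⟩
      rw [h2, hwh]
    rw [hs] at h1
    simp only [cj, toUnit_unique (toUnit X') x] at h1
    exact mul_inv_eq_iff_eq_mul.1 h1
  have hz₁fix : ∀ m, ch z₁ (Multiplicative.ofAdd (wMap D.P l m)) = ch z₁ (Multiplicative.ofAdd m) := fun m => by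
    obtain ⟨z', h1, h2⟩ := hn U z₁
    have : z' = z₁ := by
      rw [← cancel_mono c, ← h1, hz₁]
      simp only [cj, toUnit_unique (toUnit U) (𝟙 _), U, Category.id_comp]
      rw [← pow_succ', ← mul_inv_eq_iff_eq_mul.2 (pow_succ n h)]
    rw [← h2, this]
  have hz₁ord : z₁ ^ d = 1 := ch_ext fun m => by
    obtain ⟨m, rfl⟩ : ∃ k : D.M, Multiplicative.ofAdd k = m := ⟨m.toAdd, rfl⟩
    obtain ⟨x, hx⟩ := hdm m
    rw [ch_pow, ch_one, ← map_pow, ← ofAdd_nsmul, ← hx]
    show ch z₁ (Multiplicative.ofAdd (wMap D.P l x - x)) = 1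
    have h1 := map_mul (ch z₁) (Multiplicative.ofAdd (wMap D.P l x - x)) (Multiplicative.ofAdd x)
    rw [← ofAdd_add, sub_add_cancel, hz₁fix] at h1
    have h2 := map_mul (ch z₁) (Multiplicative.ofAdd x) (Multiplicative.ofAdd x)⁻¹
    rw [mul_inv_cancel, map_one] at h2
    linear_combination (ch z₁ (Multiplicative.ofAdd (wMap D.P l x - x)) - 1) * h2 -
      (ch z₁ (Multiplicative.ofAdd x)⁻¹) * h1
  let φ : (U ⟶ Red.DS (Spec (CommRingCat.of K)) D.M) →* (U ⟶ G) :=
    MonoidHom.mk' (fun s => s ≫ c) fun a b => MonObj.mul_comp a b c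
  refine ⟨n, t ≫ c, ?_, ?_, ?_⟩
  · refine isOfFinOrder_iff_pow_eq_one.2 ⟨h * d, Nat.mul_pos hh hd, ?_⟩
    rw [pow_mul, ← hz₁]
    show φ z₁ ^ d = 1
    rw [← map_pow, hz₁ord, map_one]
  · refine isOfFinOrder_iff_pow_eq_one.2 ⟨d * e, Nat.mul_pos hd he, ?_⟩
    show φ t ^ _ = 1
    rw [← map_pow, htord, map_one]
  · obtain ⟨t', h1, h2⟩ := hn U t
    have ht' : t' = z₀ * t := ch_ext fun m => by
      obtain ⟨m, rfl⟩ : ∃ k : D.M, Multiplicative.ofAdd k = m := ⟨m.toAdd, rfl⟩
      rw [ch_mul, ← htz, h2, ← map_mul, ← ofAdd_add]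
      congr 2
      show _ = wMap D.P l m - m + m
      rw [sub_add_cancel]
    simp only [cj, toUnit_unique (toUnit U) (𝟙 _), U, Category.id_comp] at h1
    rw [h1, ht', MonObj.mul_comp, hz₀, mul_inv_cancel_right]

end Groth.Agent.AlmostSimple
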